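import Cfsg.Agent.CosetCert.J4PairComm.FactsData
import Cfsg.Agent.CosetCert.J4PairComm.JustData
import Cfsg.Agent.CosetCert.CoxExtra
import Cfsg.Agent.CosetCert.Pack

/-! Generated: the certificate. -/

set_option maxRecDepth 100000

namespace Cfsg.Agent.CosetCert.J4PairComm

noncomputable def data : Data where
  K := 22
  n := 0
  M := 237
  Nf := 591
  nR := 133
  iv := fun x => if x < 11 then x + 11 else if x < 22 then x - 11 else x
  F := get48 factStore
  J := getVar justStore
  E := fun _ => 0
  L := fun _ => 0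
  P := fun _ => 0
  W := [
    [10, 10],
    [9, 9],
    [8, 8],
    [5, 5],
    [4, 4],
    [3, 3],
    [2, 2],
    [1, 1],
    [0, 0],
    [5, 8, 5, 8],
    [1, 8, 1, 8],
    [0, 3, 0, 3],
    [1, 5, 1, 5],
    [4, 8, 4, 8],
    [1, 9, 1, 9],
    [2, 8, 2, 8],
    [4, 5, 4, 5],
    [4, 2, 4, 2],
    [4, 9, 4, 9],
    [1, 4, 1, 4],
    [1, 2, 1, 2],
    [1, 10, 1, 10],
    [0, 2, 0, 2],
    [10, 5, 10, 5],
    [9, 3, 9, 3],
    [5, 1, 5, 1],
    [10, 1, 5, 10, 1, 5],
    [0, 1, 5, 0, 1, 5],
    [5, 1, 8, 5, 1, 8],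
    [2, 1, 5, 2, 1, 5],
    [2, 1, 9, 2, 1, 9],
    [1, 4, 2, 1, 4, 2],
    [5, 4, 8, 5, 4, 8],
    [2, 4, 8, 2, 4, 8],
    [9, 5, 8, 9, 5, 8],
    [1, 5, 8, 5, 1, 8],
    [4, 5, 8, 5, 4, 8],
    [4, 5, 8, 4, 5, 8],
    [4, 2, 8, 2, 4, 8],
    [4, 8, 2, 8, 4, 2],
    [8, 4, 2, 8, 4, 2],
    [10, 1, 5, 1, 5, 10],
    [4, 0, 3, 4, 0, 3],
    [4, 2, 8, 4, 2, 8],
    [5, 8, 2, 5, 8, 2],
    [2, 1, 4, 1, 4, 2],
    [2, 4, 9, 2, 4, 9],
    [9, 2, 8, 9, 2, 8],
    [9, 2, 1, 2, 1, 9],
    [9, 4, 2, 9, 4, 2],
    [8, 1, 9, 8, 1, 9],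
    [5, 2, 1, 2, 1, 5],
    [5, 2, 8, 5, 2, 8],
    [2, 9, 5, 8, 2, 9, 5, 8],
    [1, 8, 4, 2, 1, 8, 4, 2],
    [5, 8, 1, 9, 5, 8, 1, 9],
    [9, 2, 1, 5, 9, 2, 1, 5],
    [9, 5, 1, 8, 5, 8, 1, 9],
    [5, 1, 8, 2, 1, 5, 2, 8],
    [5, 9, 2, 1, 5, 2, 1, 9],
    [1, 8, 4, 2, 1, 4, 2, 8],
    [2, 1, 5, 4, 5, 1, 4, 2],
    [2, 1, 9, 1, 4, 2, 4, 9],
    [1, 10, 1, 5, 1, 10, 1, 5],
    [1, 2, 1, 5, 1, 2, 1, 5],
    [1, 2, 1, 9, 1, 2, 1, 9],
    [1, 2, 4, 8, 1, 2, 4, 8],
    [10, 1, 5, 0, 10, 1, 5, 0],
    [4, 5, 4, 8, 4, 5, 4, 8],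
    [5, 8, 4, 2, 5, 8, 4, 2],
    [2, 5, 8, 4, 2, 5, 8, 4],
    [10, 0, 3, 9, 10, 0, 3, 9],
    [0, 2, 1, 5, 0, 2, 1, 5],
    [2, 5, 4, 8, 2, 5, 4, 8],
    [9, 1, 4, 2, 9, 1, 4, 2],
    [5, 9, 2, 1, 9, 2, 1, 5],
    [5, 2, 1, 9, 5, 2, 1, 9],
    [5, 2, 4, 8, 5, 2, 4, 8],
    [1, 5, 2, 8, 1, 5, 2, 8],
    [3, 2, 1, 9, 3, 2, 1, 9],
    [1, 9, 2, 8, 1, 9, 2, 8],
    [1, 9, 4, 2, 1, 9, 4, 2],
    [2, 1, 9, 4, 1, 9, 4, 2],
    [4, 2, 4, 9, 4, 2, 4, 9],
    [1, 4, 2, 8, 1, 4, 2, 8],
    [4, 2, 5, 8, 4, 9, 2, 9, 5, 8],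
    [2, 5, 1, 8, 4, 5, 1, 8, 4, 2],
    [2, 9, 5, 8, 5, 8, 4, 9, 4, 2],
    [1, 5, 2, 8, 4, 5, 1, 8, 4, 2],
    [10, 1, 5, 0, 3, 10, 1, 5, 0, 3],
    [5, 8, 5, 4, 8, 5, 8, 5, 4, 8],
    [2, 5, 8, 4, 9, 5, 8, 4, 9, 2],
    [9, 2, 9, 5, 8, 9, 2, 9, 5, 8],
    [0, 1, 5, 1, 5, 0, 1, 5, 1, 5],
    [0, 3, 1, 4, 2, 0, 3, 1, 4, 2],
    [4, 8, 2, 4, 8, 4, 8, 2, 4, 8],
    [1, 9, 2, 1, 9, 1, 9, 2, 1, 9],
    [1, 9, 1, 4, 2, 1, 9, 1, 4, 2],
    [2, 1, 5, 4, 5, 2, 1, 5, 4, 5],
    [2, 1, 9, 1, 4, 1, 9, 1, 4, 2],
    [2, 1, 9, 4, 9, 2, 1, 9, 4, 9],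
    [4, 2, 1, 4, 2, 4, 2, 1, 4, 2],
    [1, 4, 2, 4, 9, 1, 4, 2, 4, 9],
    [1, 5, 2, 9, 5, 8, 1, 8, 4, 2, 4, 9],
    [5, 8, 2, 9, 5, 8, 5, 8, 2, 9, 5, 8],
    [5, 8, 5, 8, 1, 9, 5, 8, 5, 8, 1, 9],
    [2, 5, 8, 4, 9, 0, 2, 5, 8, 4, 9, 0],
    [2, 5, 8, 4, 5, 8, 2, 5, 8, 4, 5, 8],
    [1, 8, 1, 8, 4, 2, 1, 8, 1, 8, 4, 2],
    [2, 9, 5, 8, 5, 8, 1, 9, 2, 9, 5, 8, 5, 8, 1, 9],
    [],
    [0, 11],
    [1, 12],
    [2, 13],
    [3, 14],
    [4, 15],
    [5, 16],
    [6, 17],
    [7, 18],
    [8, 19],
    [9, 20],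
    [10, 21],
    [11, 0],
    [12, 1],
    [13, 2],
    [14, 3],
    [15, 4],
    [16, 5],
    [17, 6],
    [18, 7],
    [19, 8],
    [20, 9],
    [21, 10]]
  PW := fun k => Nat.land (Nat.shiftRight 0x176000000000000000002aa000000000000000004d00000000000000000089800000000000000000f2000000000000000001a2000000000000000002c000000000000000000478000000000000000006e0000000000000000009a000000000000000000b00000000000000000165800000000000000002aa00000000000000000512000000000000000009a00000000000000000123800000000000000002260000000000000000040a0000000000000000079000000000000000000e1800000000000000001a20000000000000000030200000000000000000002849324ca1a849324ca180000195224886548922000009315261a4c54986000002a2a4c30a8a930c00002849324ca124c9300000499434992650d2600000a28ca9124ca1984000000051465128a3288000000032886519443280000001455086a2a84300000000ca2508a250860000000314c2198a610c00000003289421944a100000001421a84a10d42000000024a3495251a4a00000001944408ca22040000000611841308c20800000012650d493286a00000000d454994549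860000000494c9324a6498000000040984b204c258000000065488c548cc200000000caa2a4c932860000000195223152230c000000093286a2a4c32800000000048ca248ca20000000000a28caa28ca000000000065508aa10c0000000000caa10caa1000000000048d4248d420000000000a10c8a10c80000000001233092330800000000024a3324a33000000000050866508660000000000610d421a8c0000000000651286512800000000024a61a4a61800000000030861308610000000000a2056a20560000000000a930ca930c0000000000ca930ca930000000000494c5494c500000000001309613096000000000125189251880000000002843128431000000000030862308620000000000612c4612c40000000001451944a10c0000000000ca2314c21800000000048ca2195220000000000a10cc21a8c00000000012330869118000000000284932446500000000003086a3086a0000000000a124ca124c0000000000654886548800000000024ca1a4ca180000000000012332466000000000000184310cc0000000000005092a12400000000000032a86550000000000001421886a000000000000246a48d40000000000005146a28c0000000000003288a2180000000000006930d26000000000000246548ca000000000000204a4094000000000000b308c2580000000000006548ca900000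00000000ca91a4a000000000000494691940000000000009315262800000000000125324c50000000000002446498400000000000049949328000000000000928d251800000000000125324a60000000000000ca219440000000000005086a10c000000000000610cc2180000000000012232446000000000000184130820000000000003096612c0000000000000008c230000000000000002288a0000000000000006599600000000000000061184000000000000002c4b1000000000000000188620000000000000005114400000000000000145514000000000000000ca32800000000000000314c500000000000000091a46000000000000001425080000000000000024a92800000000000000308c200000000000000040902000000000000001224880000000000000024c9300000000000000000021000000000000000000840000000000000000018c0000000000000000042000000000000000000a50000000000000000018c000000000000000004a400000000000000000a50000000000000000016b (Nat.mul 79 k)) 0x7fffffffffffffffffff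
  powers := [
    ([10, 10], 1),
    ([9, 9], 1),
    ([8, 8], 1),
    ([5, 5], 1),
    ([4, 4], 1),
    ([3, 3], 1),
    ([2, 2], 1),
    ([1, 1], 1),
    ([0, 0], 1),
    ([5, 8, 5, 8], 1),
    ([1, 8, 1, 8], 1),
    ([0, 3, 0, 3], 1),
    ([1, 5, 1, 5], 1),
    ([4, 8, 4, 8], 1),
    ([1, 9, 1, 9], 1),
    ([2, 8, 2, 8], 1),
    ([4, 5, 4, 5], 1),
    ([4, 2, 4, 2], 1),
    ([4, 9, 4, 9], 1),
    ([1, 4, 1, 4], 1),
    ([1, 2, 1, 2], 1),
    ([1, 10, 1, 10], 1),
    ([0, 2, 0, 2], 1),
    ([10, 5, 10, 5], 1),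
    ([9, 3, 9, 3], 1),
    ([5, 1, 5, 1], 1),
    ([10, 1, 5, 10, 1, 5], 1),
    ([0, 1, 5, 0, 1, 5], 1),
    ([5, 1, 8, 5, 1, 8], 1),
    ([2, 1, 5, 2, 1, 5], 1),
    ([2, 1, 9, 2, 1, 9], 1),
    ([1, 4, 2, 1, 4, 2], 1),
    ([5, 4, 8, 5, 4, 8], 1),
    ([2, 4, 8, 2, 4, 8], 1),
    ([9, 5, 8, 9, 5, 8], 1),
    ([1, 5, 8, 5, 1, 8], 1),
    ([4, 5, 8, 5, 4, 8], 1),
    ([4, 5, 8, 4, 5, 8], 1),
    ([4, 2, 8, 2, 4, 8], 1),
    ([4, 8, 2, 8, 4, 2], 1),
    ([8, 4, 2, 8, 4, 2], 1),
    ([10, 1, 5, 1, 5, 10], 1),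
    ([4, 0, 3, 4, 0, 3], 1),
    ([4, 2, 8, 4, 2, 8], 1),
    ([5, 8, 2, 5, 8, 2], 1),
    ([2, 1, 4, 1, 4, 2], 1),
    ([2, 4, 9, 2, 4, 9], 1),
    ([9, 2, 8, 9, 2, 8], 1),
    ([9, 2, 1, 2, 1, 9], 1),
    ([9, 4, 2, 9, 4, 2], 1),
    ([8, 1, 9, 8, 1, 9], 1),
    ([5, 2, 1, 2, 1, 5], 1),
    ([5, 2, 8, 5, 2, 8], 1),
    ([2, 9, 5, 8, 2, 9, 5, 8], 1),
    ([1, 8, 4, 2, 1, 8, 4, 2], 1),
    ([5, 8, 1, 9, 5, 8, 1, 9], 1),
    ([9, 2, 1, 5, 9, 2, 1, 5], 1),
    ([9, 5, 1, 8, 5, 8, 1, 9], 1),
    ([5, 1, 8, 2, 1, 5, 2, 8], 1),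
    ([5, 9, 2, 1, 5, 2, 1, 9], 1),
    ([1, 8, 4, 2, 1, 4, 2, 8], 1),
    ([2, 1, 5, 4, 5, 1, 4, 2], 1),
    ([2, 1, 9, 1, 4, 2, 4, 9], 1),
    ([1, 10, 1, 5, 1, 10, 1, 5], 1),
    ([1, 2, 1, 5, 1, 2, 1, 5], 1),
    ([1, 2, 1, 9, 1, 2, 1, 9], 1),
    ([1, 2, 4, 8, 1, 2, 4, 8], 1),
    ([10, 1, 5, 0, 10, 1, 5, 0], 1),
    ([4, 5, 4, 8, 4, 5, 4, 8], 1),
    ([5, 8, 4, 2, 5, 8, 4, 2], 1),
    ([2, 5, 8, 4, 2, 5, 8, 4], 1),
    ([10, 0, 3, 9, 10, 0, 3, 9], 1),
    ([0, 2, 1, 5, 0, 2, 1, 5], 1),
    ([2, 5, 4, 8, 2, 5, 4, 8], 1),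
    ([9, 1, 4, 2, 9, 1, 4, 2], 1),
    ([5, 9, 2, 1, 9, 2, 1, 5], 1),
    ([5, 2, 1, 9, 5, 2, 1, 9], 1),
    ([5, 2, 4, 8, 5, 2, 4, 8], 1),
    ([1, 5, 2, 8, 1, 5, 2, 8], 1),
    ([3, 2, 1, 9, 3, 2, 1, 9], 1),
    ([1, 9, 2, 8, 1, 9, 2, 8], 1),
    ([1, 9, 4, 2, 1, 9, 4, 2], 1),
    ([2, 1, 9, 4, 1, 9, 4, 2], 1),
    ([4, 2, 4, 9, 4, 2, 4, 9], 1),
    ([1, 4, 2, 8, 1, 4, 2, 8], 1),
    ([4, 2, 5, 8, 4, 9, 2, 9, 5, 8], 1),
    ([2, 5, 1, 8, 4, 5, 1, 8, 4, 2], 1),
    ([2, 9, 5, 8, 5, 8, 4, 9, 4, 2], 1),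
    ([1, 5, 2, 8, 4, 5, 1, 8, 4, 2], 1),
    ([10, 1, 5, 0, 3, 10, 1, 5, 0, 3], 1),
    ([5, 8, 5, 4, 8, 5, 8, 5, 4, 8], 1),
    ([2, 5, 8, 4, 9, 5, 8, 4, 9, 2], 1),
    ([9, 2, 9, 5, 8, 9, 2, 9, 5, 8], 1),
    ([0, 1, 5, 1, 5, 0, 1, 5, 1, 5], 1),
    ([0, 3, 1, 4, 2, 0, 3, 1, 4, 2], 1),
    ([4, 8, 2, 4, 8, 4, 8, 2, 4, 8], 1),
    ([1, 9, 2, 1, 9, 1, 9, 2, 1, 9], 1),
    ([1, 9, 1, 4, 2, 1, 9, 1, 4, 2], 1),
    ([2, 1, 5, 4, 5, 2, 1, 5, 4, 5], 1),
    ([2, 1, 9, 1, 4, 1, 9, 1, 4, 2], 1),
    ([2, 1, 9, 4, 9, 2, 1, 9, 4, 9], 1),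
    ([4, 2, 1, 4, 2, 4, 2, 1, 4, 2], 1),
    ([1, 4, 2, 4, 9, 1, 4, 2, 4, 9], 1),
    ([1, 5, 2, 9, 5, 8, 1, 8, 4, 2, 4, 9], 1),
    ([5, 8, 2, 9, 5, 8, 5, 8, 2, 9, 5, 8], 1),
    ([5, 8, 5, 8, 1, 9, 5, 8, 5, 8, 1, 9], 1),
    ([2, 5, 8, 4, 9, 0, 2, 5, 8, 4, 9, 0], 1),
    ([2, 5, 8, 4, 5, 8, 2, 5, 8, 4, 5, 8], 1),
    ([1, 8, 1, 8, 4, 2, 1, 8, 1, 8, 4, 2], 1),
    ([2, 9, 5, 8, 5, 8, 1, 9, 2, 9, 5, 8, 5, 8, 1, 9], 1),
    ([], 1),
    ([0, 11], 1),
    ([1, 12], 1),
    ([2, 13], 1),
    ([3, 14], 1),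
    ([4, 15], 1),
    ([5, 16], 1),
    ([6, 17], 1),
    ([7, 18], 1),
    ([8, 19], 1),
    ([9, 20], 1),
    ([10, 21], 1),
    ([11, 0], 1),
    ([12, 1], 1),
    ([13, 2], 1),
    ([14, 3], 1),
    ([15, 4], 1),
    ([16, 5], 1),
    ([17, 6], 1),
    ([18, 7], 1),
    ([19, 8], 1),
    ([20, 9], 1),
    ([21, 10], 1)]

/-- The relators. -/
def relWords : List (List (Fin 11 × Bool)) := [
    [(10, true), (10, true)],
    [(9, true), (9, true)],
    [(8, true), (8, true)],
    [(5, true), (5, true)],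
    [(4, true), (4, true)],
    [(3, true), (3, true)],
    [(2, true), (2, true)],
    [(1, true), (1, true)],
    [(0, true), (0, true)],
    [(5, true), (8, true), (5, true), (8, true)],
    [(1, true), (8, true), (1, true), (8, true)],
    [(0, true), (3, true), (0, true), (3, true)],
    [(1, true), (5, true), (1, true), (5, true)],
    [(4, true), (8, true), (4, true), (8, true)],
    [(1, true), (9, true), (1, true), (9, true)],
    [(2, true), (8, true), (2, true), (8, true)],
    [(4, true), (5, true), (4, true), (5, true)],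
    [(4, true), (2, true), (4, true), (2, true)],
    [(4, true), (9, true), (4, true), (9, true)],
    [(1, true), (4, true), (1, true), (4, true)],
    [(1, true), (2, true), (1, true), (2, true)],
    [(1, true), (10, true), (1, true), (10, true)],
    [(0, true), (2, true), (0, true), (2, true)],
    [(10, true), (5, true), (10, true), (5, true)],
    [(9, true), (3, true), (9, true), (3, true)],
    [(5, true), (1, true), (5, true), (1, true)],
    [(10, true), (1, true), (5, true), (10, true), (1, true), (5, true)],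
    [(0, true), (1, true), (5, true), (0, true), (1, true), (5, true)],
    [(5, true), (1, true), (8, true), (5, true), (1, true), (8, true)],
    [(2, true), (1, true), (5, true), (2, true), (1, true), (5, true)],
    [(2, true), (1, true), (9, true), (2, true), (1, true), (9, true)],
    [(1, true), (4, true), (2, true), (1, true), (4, true), (2, true)],
    [(5, true), (4, true), (8, true), (5, true), (4, true), (8, true)],
    [(2, true), (4, true), (8, true), (2, true), (4, true), (8, true)],
    [(9, true), (5, true), (8, true), (9, true), (5, true), (8, true)],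
    [(1, true), (5, true), (8, true), (5, true), (1, true), (8, true)],
    [(4, true), (5, true), (8, true), (5, true), (4, true), (8, true)],
    [(4, true), (5, true), (8, true), (4, true), (5, true), (8, true)],
    [(4, true), (2, true), (8, true), (2, true), (4, true), (8, true)],
    [(4, true), (8, true), (2, true), (8, true), (4, true), (2, true)],
    [(8, true), (4, true), (2, true), (8, true), (4, true), (2, true)],
    [(10, true), (1, true), (5, true), (1, true), (5, true), (10, true)],
    [(4, true), (0, true), (3, true), (4, true), (0, true), (3, true)],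
    [(4, true), (2, true), (8, true), (4, true), (2, true), (8, true)],
    [(5, true), (8, true), (2, true), (5, true), (8, true), (2, true)],
    [(2, true), (1, true), (4, true), (1, true), (4, true), (2, true)],
    [(2, true), (4, true), (9, true), (2, true), (4, true), (9, true)],
    [(9, true), (2, true), (8, true), (9, true), (2, true), (8, true)],
    [(9, true), (2, true), (1, true), (2, true), (1, true), (9, true)],
    [(9, true), (4, true), (2, true), (9, true), (4, true), (2, true)],
    [(8, true), (1, true), (9, true), (8, true), (1, true), (9, true)],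
    [(5, true), (2, true), (1, true), (2, true), (1, true), (5, true)],
    [(5, true), (2, true), (8, true), (5, true), (2, true), (8, true)],
    [(2, true), (9, true), (5, true), (8, true), (2, true), (9, true), (5, true), (8, true)],
    [(1, true), (8, true), (4, true), (2, true), (1, true), (8, true), (4, true), (2, true)],
    [(5, true), (8, true), (1, true), (9, true), (5, true), (8, true), (1, true), (9, true)],
    [(9, true), (2, true), (1, true), (5, true), (9, true), (2, true), (1, true), (5, true)],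
    [(9, true), (5, true), (1, true), (8, true), (5, true), (8, true), (1, true), (9, true)],
    [(5, true), (1, true), (8, true), (2, true), (1, true), (5, true), (2, true), (8, true)],
    [(5, true), (9, true), (2, true), (1, true), (5, true), (2, true), (1, true), (9, true)],
    [(1, true), (8, true), (4, true), (2, true), (1, true), (4, true), (2, true), (8, true)],
    [(2, true), (1, true), (5, true), (4, true), (5, true), (1, true), (4, true), (2, true)],
    [(2, true), (1, true), (9, true), (1, true), (4, true), (2, true), (4, true), (9, true)],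
    [(1, true), (10, true), (1, true), (5, true), (1, true), (10, true), (1, true), (5, true)],
    [(1, true), (2, true), (1, true), (5, true), (1, true), (2, true), (1, true), (5, true)],
    [(1, true), (2, true), (1, true), (9, true), (1, true), (2, true), (1, true), (9, true)],
    [(1, true), (2, true), (4, true), (8, true), (1, true), (2, true), (4, true), (8, true)],
    [(10, true), (1, true), (5, true), (0, true), (10, true), (1, true), (5, true), (0, true)],
    [(4, true), (5, true), (4, true), (8, true), (4, true), (5, true), (4, true), (8, true)],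
    [(5, true), (8, true), (4, true), (2, true), (5, true), (8, true), (4, true), (2, true)],
    [(2, true), (5, true), (8, true), (4, true), (2, true), (5, true), (8, true), (4, true)],
    [(10, true), (0, true), (3, true), (9, true), (10, true), (0, true), (3, true), (9, true)],
    [(0, true), (2, true), (1, true), (5, true), (0, true), (2, true), (1, true), (5, true)],
    [(2, true), (5, true), (4, true), (8, true), (2, true), (5, true), (4, true), (8, true)],
    [(9, true), (1, true), (4, true), (2, true), (9, true), (1, true), (4, true), (2, true)],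
    [(5, true), (9, true), (2, true), (1, true), (9, true), (2, true), (1, true), (5, true)],
    [(5, true), (2, true), (1, true), (9, true), (5, true), (2, true), (1, true), (9, true)],
    [(5, true), (2, true), (4, true), (8, true), (5, true), (2, true), (4, true), (8, true)],
    [(1, true), (5, true), (2, true), (8, true), (1, true), (5, true), (2, true), (8, true)],
    [(3, true), (2, true), (1, true), (9, true), (3, true), (2, true), (1, true), (9, true)],
    [(1, true), (9, true), (2, true), (8, true), (1, true), (9, true), (2, true), (8, true)],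
    [(1, true), (9, true), (4, true), (2, true), (1, true), (9, true), (4, true), (2, true)],
    [(2, true), (1, true), (9, true), (4, true), (1, true), (9, true), (4, true), (2, true)],
    [(4, true), (2, true), (4, true), (9, true), (4, true), (2, true), (4, true), (9, true)],
    [(1, true), (4, true), (2, true), (8, true), (1, true), (4, true), (2, true), (8, true)],
    [(4, true), (2, true), (5, true), (8, true), (4, true), (9, true), (2, true), (9, true), (5, true), (8, true)],
    [(2, true), (5, true), (1, true), (8, true), (4, true), (5, true), (1, true), (8, true), (4, true), (2, true)],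
    [(2, true), (9, true), (5, true), (8, true), (5, true), (8, true), (4, true), (9, true), (4, true), (2, true)],
    [(1, true), (5, true), (2, true), (8, true), (4, true), (5, true), (1, true), (8, true), (4, true), (2, true)],
    [(10, true), (1, true), (5, true), (0, true), (3, true), (10, true), (1, true), (5, true), (0, true), (3, true)],
    [(5, true), (8, true), (5, true), (4, true), (8, true), (5, true), (8, true), (5, true), (4, true), (8, true)],
    [(2, true), (5, true), (8, true), (4, true), (9, true), (5, true), (8, true), (4, true), (9, true), (2, true)],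
    [(9, true), (2, true), (9, true), (5, true), (8, true), (9, true), (2, true), (9, true), (5, true), (8, true)],
    [(0, true), (1, true), (5, true), (1, true), (5, true), (0, true), (1, true), (5, true), (1, true), (5, true)],
    [(0, true), (3, true), (1, true), (4, true), (2, true), (0, true), (3, true), (1, true), (4, true), (2, true)],
    [(4, true), (8, true), (2, true), (4, true), (8, true), (4, true), (8, true), (2, true), (4, true), (8, true)],
    [(1, true), (9, true), (2, true), (1, true), (9, true), (1, true), (9, true), (2, true), (1, true), (9, true)],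
    [(1, true), (9, true), (1, true), (4, true), (2, true), (1, true), (9, true), (1, true), (4, true), (2, true)],
    [(2, true), (1, true), (5, true), (4, true), (5, true), (2, true), (1, true), (5, true), (4, true), (5, true)],
    [(2, true), (1, true), (9, true), (1, true), (4, true), (1, true), (9, true), (1, true), (4, true), (2, true)],
    [(2, true), (1, true), (9, true), (4, true), (9, true), (2, true), (1, true), (9, true), (4, true), (9, true)],
    [(4, true), (2, true), (1, true), (4, true), (2, true), (4, true), (2, true), (1, true), (4, true), (2, true)],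
    [(1, true), (4, true), (2, true), (4, true), (9, true), (1, true), (4, true), (2, true), (4, true), (9, true)],
    [(1, true), (5, true), (2, true), (9, true), (5, true), (8, true), (1, true), (8, true), (4, true), (2, true), (4, true), (9, true)],
    [(5, true), (8, true), (2, true), (9, true), (5, true), (8, true), (5, true), (8, true), (2, true), (9, true), (5, true), (8, true)],
    [(5, true), (8, true), (5, true), (8, true), (1, true), (9, true), (5, true), (8, true), (5, true), (8, true), (1, true), (9, true)],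
    [(2, true), (5, true), (8, true), (4, true), (9, true), (0, true), (2, true), (5, true), (8, true), (4, true), (9, true), (0, true)],
    [(2, true), (5, true), (8, true), (4, true), (5, true), (8, true), (2, true), (5, true), (8, true), (4, true), (5, true), (8, true)],
    [(1, true), (8, true), (1, true), (8, true), (4, true), (2, true), (1, true), (8, true), (1, true), (8, true), (4, true), (2, true)],
    [(2, true), (9, true), (5, true), (8, true), (5, true), (8, true), (1, true), (9, true), (2, true), (9, true), (5, true), (8, true), (5, true), (8, true), (1, true), (9, true)]]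

/-- The subgroup's generators. -/
def subWords : List (List (Fin 11 × Bool)) := []

/-- The numbering of the generators. -/
def enc (b : Fin 11) : Nat := b.val

/-- The generator of a number. -/
def dec (x : Nat) : Fin 11 × Bool := if x < 11 then (Fin.ofNat 11 x, true) else (Fin.ofNat 11 x, false)

end Cfsg.Agent.CosetCert.J4PairComm
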